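import Groth.Agent.IsoTorusPts.Factor
import Groth.Agent.SemiAbLib.Basic
import Groth.Agent.RankOneCellLib.Comm
import Groth.Prelude.Def_TwC
import Mathlib

/-!
Lifting points of a retract rational torus along local rings.
-/

set_option autoImplicit false
set_option backward.isDefEq.respectTransparency false
set_option backward.isDefEq.respectTransparency.types false
set_option linter.style.haveILetI false
set_option linter.unusedSectionVars false

universe u

open CategoryTheory CategoryTheory.Limits MonoidalCategory CartesianMonoidalCategory AlgebraicGeometry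
open scoped MonObj TensorProduct
open Groth.Agent IsoTorusPts

noncomputable section

namespace Groth.Agent.TorusRetrLib

variable {k : Type u} [Field k] (T : Over (Spec (CommRingCat.of k))) [GrpObj T]

/-- An isotrivial torus over a field is an affine torus. -/
theorem affine_and_isTorus
    (hT : ∃ r : ℕ, TwC.Locally (Spec (CommRingCat.of k)) .finiteEtale
        (fun S' g => Red.IsSplitTorusWith (Fin r → ℤ) (Red.bc g T))) :
    IsAffine T.left ∧ Red.IsTorus T := by
  obtain ⟨r, S', f, hfin, het, hsurj, hloc⟩ := hT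
  haveI := hfin
  haveI := het
  haveI := hsurj
  haveI : IsAffine S' := isAffine_of_isAffineHom f
  refine ⟨?_, S', f, inferInstance, inferInstance, fun V _ => ?_, fun s => ?_⟩
  · obtain ⟨s, -⟩ := hsurj.surj (default : PrimeSpectrum k)
    obtain ⟨U, hsU, hUc, ⟨e⟩⟩ := hloc s
    haveI : IsClosedImmersion U.ι := .of_isPreimmersion _ (by rwa [U.range_ι])
    haveI : IsAffine (U : Scheme.{u}) := isAffine_of_isAffineHom U.ι
    have h : IsAffineHom (Red.bc (U.ι ≫ f) T).hom :=
      @FixedSmooth.hom_of_grpIso _ _ _ _ _ e @IsAffineHom _ (FixedSmooth.isAffineHom_DS _ _)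
    haveI : Flat (U.ι ≫ f) := inferInstance
    haveI : Nonempty (U : Scheme.{u}) := ⟨⟨s, hsU⟩⟩
    haveI : Surjective (U.ι ≫ f) :=
      ⟨fun y => ⟨⟨s, hsU⟩, Subsingleton.elim (α := PrimeSpectrum k) _ _⟩⟩
    haveI : QuasiCompact (U.ι ≫ f) := inferInstance
    haveI := FpqcDesc.isAffineHom_descends.{u}
    haveI : IsAffineHom T.hom :=
      MorphismProperty.of_pullback_snd_of_descendsAlong (P := @IsAffineHom)
        (Q := (@Surjective ⊓ @Flat ⊓ @QuasiCompact : MorphismProperty Scheme.{u})) ⟨⟨inferInstance, inferInstance⟩, inferInstance⟩ h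
    exact isAffine_of_isAffineHom T.hom
  · rcases (V : Set ↥(Spec (CommRingCat.of k))).eq_empty_or_nonempty with hV | ⟨v, hv⟩
    · exact ⟨⊥, by simp, by simp [hV]⟩
    · refine ⟨⊤, isCompact_univ, Set.ext fun y => ⟨fun _ => ?_, fun _ => ?_⟩⟩
      · rwa [show y = v from Subsingleton.elim (α := PrimeSpectrum k) _ _]
      · obtain ⟨x, hx⟩ := f.surjective y
        exact ⟨x, trivial, hx⟩
  · obtain ⟨U, hsU, -, h⟩ := hloc s
    exact ⟨U, hsU, r, h⟩

variable {n : ℕ} (U : T.left.Opens) (Yo : (Spec (CommRingCat.of (MvPolynomial (Fin n) k))).Opens)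

/-- A retraction of an open of the torus through an open of affine space. -/
structure Retr where
  a : (U : Scheme.{u}) ⟶ (Yo : Scheme.{u})
  b : (Yo : Scheme.{u}) ⟶ (U : Scheme.{u})
  ne : (U : Set T.left).Nonempty
  hab : a ≫ b = 𝟙 (U : Scheme.{u})
  ha : a ≫ Yo.ι ≫ Spec.map (CommRingCat.ofHom (algebraMap k (MvPolynomial (Fin n) k))) = U.ι ≫ T.hom
  hb : b ≫ U.ι ≫ T.hom = Yo.ι ≫ Spec.map (CommRingCat.ofHom (algebraMap k (MvPolynomial (Fin n) k)))

variable {T U Yo} (ρ : Retr T U Yo)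

/-- A point lies in the open. -/
def In {X : Over (Spec (CommRingCat.of k))} (p : X ⟶ T) : Prop := Set.range p.left ⊆ (U : Set T.left)

include ρ in
/-- Points in the open lift along surjections from local rings onto fields. -/
theorem lift_mem {A F : Type u} [CommRing A] [IsLocalRing A] [Field F] [Algebra k A] [Algebra k F] (π : A →ₐ[k] F)
    (hπ : Function.Surjective π) (u : Y k F ⟶ T) (hu : In (U := U) u) :
    ∃ q : Y k A ⟶ T, pb T π q = u := by
  let u' : Spec (CommRingCat.of F) ⟶ (U : Scheme.{u}) := IsOpenImmersion.lift U.ι u.left (by rw [Scheme.Opens.range_ι]; exact hu)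
  have hu' : u' ≫ U.ι = u.left := IsOpenImmersion.lift_fac _ _ _
  let y : Spec (CommRingCat.of F) ⟶ Spec (CommRingCat.of (MvPolynomial (Fin n) k)) := u' ≫ ρ.a ≫ Yo.ι
  have hy : y ≫ Spec.map (CommRingCat.ofHom (algebraMap k (MvPolynomial (Fin n) k))) =
      Spec.map (CommRingCat.ofHom (algebraMap k F)) := by
    simp only [y, Category.assoc, ρ.ha]
    rw [← Category.assoc, hu']
    exact Over.w u
  let φ : MvPolynomial (Fin n) k →ₐ[k] F :=
    { (Spec.preimage y).hom with
      commutes' := fun r => by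
        have h : CommRingCat.ofHom (algebraMap k (MvPolynomial (Fin n) k)) ≫ Spec.preimage y =
            CommRingCat.ofHom (algebraMap k F) := Spec.map_injective (by rw [Spec.map_comp, Spec.map_preimage]; exact hy)
        exact congr($h r) }
  have hφ : Spec.map (CommRingCat.ofHom φ.toRingHom) = y := Spec.map_preimage _
  choose c hc using fun i => hπ (φ (MvPolynomial.X i))
  let Φ : MvPolynomial (Fin n) k →ₐ[k] A := MvPolynomial.aeval c
  have hΦ : π.comp Φ = φ := MvPolynomial.algHom_ext fun i => by simp [Φ, hc]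
  let yA := Spec.map (CommRingCat.ofHom Φ.toRingHom)
  have hcomp : Spec.map (CommRingCat.ofHom π.toRingHom) ≫ yA = y := by
    rw [← Spec.map_comp, ← hφ, ← hΦ]
    rfl
  let pt : ↥(Spec (CommRingCat.of F)) := (default : PrimeSpectrum F)
  have hπpt : Spec.map (CommRingCat.ofHom π.toRingHom) pt = IsLocalRing.closedPoint A := by
    refine PrimeSpectrum.ext ?_
    show Ideal.comap π.toRingHom (default : PrimeSpectrum F).asIdeal = _
    have : (default : PrimeSpectrum F).asIdeal = ⊥ := Ideal.eq_bot_of_prime _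
    rw [this]
    exact (IsLocalRing.eq_maximalIdeal (RingHom.ker_isMaximal_of_surjective π.toRingHom hπ))
  have hrange : Set.range yA ⊆ Set.range Yo.ι := by
    rw [Scheme.Opens.range_ι]
    rintro _ ⟨z, rfl⟩
    refine ((IsLocalRing.specializes_closedPoint z).map yA.continuous).mem_open Yo.2 ?_
    rw [← hπpt, ← Scheme.Hom.comp_apply, hcomp]
    show Yo.ι (ρ.a (u' pt)) ∈ Yo
    exact (ρ.a (u' pt)).2
  let ly := IsOpenImmersion.lift Yo.ι yA hrange
  have hly : ly ≫ Yo.ι = yA := IsOpenImmersion.lift_fac _ _ _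
  refine ⟨Over.homMk (ly ≫ ρ.b ≫ U.ι) ?_, Over.OverMorphism.ext ?_⟩
  · show (ly ≫ ρ.b ≫ U.ι) ≫ T.hom = Spec.map (CommRingCat.ofHom (algebraMap k A))
    rw [Category.assoc, Category.assoc, ρ.hb, ← Category.assoc, hly, ← Spec.map_comp, ← CommRingCat.ofHom_comp]
    exact congrArg (fun f => Spec.map (CommRingCat.ofHom f)) Φ.comp_algebraMap
  · show Spec.map (CommRingCat.ofHom π.toRingHom) ≫ ly ≫ ρ.b ≫ U.ι = u.left
    have h : Spec.map (CommRingCat.ofHom π.toRingHom) ≫ ly = u' ≫ ρ.a := by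
      rw [← cancel_mono Yo.ι, Category.assoc, hly, hcomp, Category.assoc]
    rw [← Category.assoc, h, Category.assoc, ← Category.assoc ρ.a, ρ.hab, Category.id_comp, hu']

include ρ in
/-- Generic decomposition of a point into two points of the open. -/
theorem exists_poly [GeometricallyIntegral T.hom] {F : Type u} [Field F] [Algebra k F] (u : Y k F ⟶ T) :
    ∃ g : MvPolynomial (Fin n) F, g ≠ 0 ∧ ∀ (F' : Type u) [Field F'] [Algebra k F'] (f : F →ₐ[k] F')
      (c : Fin n → F'), MvPolynomial.eval₂ (f : F →+* F') c g ≠ 0 →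
      ∃ v w : Y k F' ⟶ T, In (U := U) v ∧ In (U := U) w ∧ v * w = pb T f u := by
  let sF := Spec.map (CommRingCat.ofHom (algebraMap k F))
  let P := MvPolynomial (Fin n) k
  let PF := MvPolynomial (Fin n) F
  let ι₀ : P →+* PF := MvPolynomial.map (algebraMap k F)
  let q₀ : Spec (CommRingCat.of PF) ⟶ Spec (CommRingCat.of P) := Spec.map (CommRingCat.ofHom ι₀)
  have hq₀ : q₀ ≫ Spec.map (CommRingCat.ofHom (algebraMap k P)) =
      Spec.map (CommRingCat.ofHom (MvPolynomial.C : F →+* PF)) ≫ sF := by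
    rw [← Spec.map_comp, ← Spec.map_comp]
    exact congrArg Spec.map (CommRingCat.hom_ext (RingHom.ext fun r => MvPolynomial.map_C _ r))
  let O₁ : (Spec (CommRingCat.of PF)).Opens := q₀ ⁻¹ᵁ Yo
  let X₁ : Over (Spec (CommRingCat.of k)) :=
    Over.mk (O₁.ι ≫ Spec.map (CommRingCat.ofHom (MvPolynomial.C : F →+* PF)) ≫ sF)
  let β : X₁ ⟶ T := Over.homMk ((q₀ ∣_ Yo) ≫ ρ.b ≫ U.ι) (by
    show ((q₀ ∣_ Yo) ≫ ρ.b ≫ U.ι) ≫ T.hom = O₁.ι ≫ _ ≫ sF
    rw [Category.assoc, Category.assoc, ρ.hb, ← Category.assoc (q₀ ∣_ Yo), morphismRestrict_ι, Category.assoc, hq₀])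
  let pF : X₁ ⟶ Y k F := Over.homMk (O₁.ι ≫ Spec.map (CommRingCat.ofHom (MvPolynomial.C : F →+* PF)))
    (Category.assoc _ _ _)
  let τ : X₁ ⟶ T := β⁻¹ * (pF ≫ u)
  let O₂ : (Spec (CommRingCat.of PF)).Opens := O₁.ι ''ᵁ (τ.left ⁻¹ᵁ U)
  have hne : (O₂ : Set ↥(Spec (CommRingCat.of PF))).Nonempty := by
    let XT : Over (Spec (CommRingCat.of k)) := Over.mk (pullback.fst T.hom sF ≫ T.hom)
    let t₁ : XT ⟶ T := Over.homMk (pullback.fst T.hom sF)
    let pX : XT ⟶ Y k F := Over.homMk (pullback.snd T.hom sF) pullback.condition.symm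
    let t₂ : XT ⟶ T := t₁⁻¹ * (pX ≫ u)
    let t₃ : XT ⟶ T := (pX ≫ u) * t₁⁻¹
    let ψ : XT ⟶ XT := Over.homMk (pullback.lift t₃.left (pullback.snd T.hom sF)
      (by rw [Over.w t₃]; exact pullback.condition)) (by
      show pullback.lift t₃.left (pullback.snd T.hom sF) _ ≫ pullback.fst T.hom sF ≫ T.hom = _
      rw [pullback.lift_fst_assoc]
      exact Over.w t₃)
    have hψ₁ : ψ ≫ t₁ = t₃ := Over.OverMorphism.ext (pullback.lift_fst _ _ _)
    have hψX : ψ ≫ pX = pX := Over.OverMorphism.ext (pullback.lift_snd _ _ _)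
    have hψ₂ : ψ ≫ t₂ = t₁ := by
      rw [MonObj.comp_mul, GrpObj.comp_inv, hψ₁, ← Category.assoc, hψX]
      show ((pX ≫ u) * t₁⁻¹)⁻¹ * (pX ≫ u) = t₁
      group
    haveI : Surjective sF := ⟨fun _ => ⟨(default : PrimeSpectrum F), Subsingleton.elim (α := PrimeSpectrum k) _ _⟩⟩
    haveI : Surjective t₁.left := MorphismProperty.pullback_fst (P := @Surjective) _ _ inferInstance
    obtain ⟨x₀, hx₀⟩ := ρ.ne
    obtain ⟨z₁, hz₁⟩ := t₁.left.surjective x₀
    have h1 : (t₁.left ⁻¹ᵁ U : Set ↥XT.left).Nonempty := ⟨z₁, by show t₁.left z₁ ∈ U; rwa [hz₁]⟩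
    have h2 : (t₂.left ⁻¹ᵁ U : Set ↥XT.left).Nonempty := ⟨ψ.left z₁, by
      show t₂.left (ψ.left z₁) ∈ U
      rw [← Scheme.Hom.comp_apply, ← Over.comp_left, hψ₂, hz₁]
      exact hx₀⟩
    haveI : IsIntegral (pullback T.hom sF) :=
      GeometricallyIntegral.geometrically_isIntegral _ _ _ (IsPullback.of_hasPullback T.hom sF)
    haveI : IrreducibleSpace ↥XT.left := inferInstanceAs (IrreducibleSpace ↥(pullback T.hom sF))
    obtain ⟨p, hp1, hp2⟩ := nonempty_preirreducible_inter (t₁.left ⁻¹ᵁ U).2 (t₂.left ⁻¹ᵁ U).2 h1 h2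
    let L := XT.left.residueField p
    let m₀ : Spec L ⟶ XT.left := XT.left.fromSpecResidueField p
    let g₀ := Spec.preimage (m₀ ≫ pullback.snd T.hom sF : Spec L ⟶ Spec (CommRingCat.of F))
    let XL : Over (Spec (CommRingCat.of k)) := Over.mk (m₀ ≫ XT.hom)
    let M₀ : XL ⟶ XT := Over.homMk m₀
    have hpt : ∀ z, m₀ z = p := fun z => by
      show (XT.left.fromSpecResidueField p) z = p
      exact Scheme.fromSpecResidueField_apply p z
    let x' : Spec L ⟶ (U : Scheme.{u}) := IsOpenImmersion.lift U.ι (m₀ ≫ t₁.left) (by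
      rw [Scheme.Opens.range_ι]
      rintro _ ⟨z, rfl⟩
      rw [Scheme.Hom.comp_apply, hpt]
      exact hp1)
    have hx' : x' ≫ U.ι = m₀ ≫ t₁.left := IsOpenImmersion.lift_fac _ _ _
    let φ₀ := Spec.preimage (x' ≫ ρ.a ≫ Yo.ι : Spec L ⟶ Spec (CommRingCat.of P))
    let φc : PF →+* L := MvPolynomial.eval₂Hom g₀.hom fun i => φ₀ (MvPolynomial.X i)
    have hC : ∀ r : k, g₀ (algebraMap k F r) = φ₀ (algebraMap k P r) := by
      intro r
      have h : CommRingCat.ofHom (algebraMap k F) ≫ g₀ = CommRingCat.ofHom (algebraMap k P) ≫ φ₀ := by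
        refine Spec.map_injective ?_
        rw [Spec.map_comp, Spec.map_comp, Spec.map_preimage, Spec.map_preimage, Category.assoc, Category.assoc,
          Category.assoc, ρ.ha, ← Category.assoc x', hx', Category.assoc]
        show _ = m₀ ≫ pullback.fst T.hom sF ≫ T.hom
        rw [pullback.condition]
      exact congr($h r)
    have hφc : φc.comp ι₀ = φ₀.hom := MvPolynomial.ringHom_ext
      (fun r => (congrArg φc (MvPolynomial.map_C _ r)).trans ((MvPolynomial.eval₂Hom_C _ _ _).trans (hC r)))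
      fun i => (congrArg φc (MvPolynomial.map_X _ i)).trans (MvPolynomial.eval₂Hom_X' _ _ _)
    let mP : Spec L ⟶ Spec (CommRingCat.of PF) := Spec.map (CommRingCat.ofHom φc)
    have hmq : mP ≫ q₀ = x' ≫ ρ.a ≫ Yo.ι := by
      rw [← Spec.map_comp, ← CommRingCat.ofHom_comp, hφc]
      exact Spec.map_preimage _
    have hmF : mP ≫ Spec.map (CommRingCat.ofHom (MvPolynomial.C : F →+* PF)) = m₀ ≫ pullback.snd T.hom sF := by
      rw [← Spec.map_comp, ← Spec.map_preimage (m₀ ≫ pullback.snd T.hom sF)]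
      exact congrArg Spec.map (CommRingCat.hom_ext (RingHom.ext fun r => MvPolynomial.eval₂Hom_C _ _ r))
    let l : Spec L ⟶ (O₁ : Scheme.{u}) := IsOpenImmersion.lift O₁.ι mP (by
      rw [Scheme.Opens.range_ι]
      rintro _ ⟨z, rfl⟩
      show q₀ (mP z) ∈ Yo
      rw [← Scheme.Hom.comp_apply, hmq]
      exact (ρ.a (x' z)).2)
    have hl : l ≫ O₁.ι = mP := IsOpenImmersion.lift_fac _ _ _
    let ml : XL ⟶ X₁ := Over.homMk l (by
      show l ≫ O₁.ι ≫ _ ≫ sF = m₀ ≫ pullback.fst T.hom sF ≫ T.hom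
      rw [← Category.assoc, hl, ← Category.assoc, hmF, Category.assoc, pullback.condition])
    have hβ : ml ≫ β = M₀ ≫ t₁ := Over.OverMorphism.ext (by
      show l ≫ (q₀ ∣_ Yo) ≫ ρ.b ≫ U.ι = m₀ ≫ t₁.left
      have h : l ≫ (q₀ ∣_ Yo) = x' ≫ ρ.a := by
        rw [← cancel_mono Yo.ι, Category.assoc, morphismRestrict_ι, ← Category.assoc, hl, hmq, Category.assoc]
      rw [← Category.assoc, h, Category.assoc, ← Category.assoc ρ.a, ρ.hab, Category.id_comp, hx'])
    have hpF : ml ≫ pF = M₀ ≫ pX := Over.OverMorphism.ext (by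
      show l ≫ O₁.ι ≫ _ = m₀ ≫ pullback.snd T.hom sF
      rw [← Category.assoc, hl, hmF])
    have hτ : ml ≫ τ = M₀ ≫ t₂ := by
      rw [MonObj.comp_mul, GrpObj.comp_inv, MonObj.comp_mul, GrpObj.comp_inv, hβ, ← Category.assoc, hpF,
        Category.assoc]
    let z : ↥(Spec L) := (default : PrimeSpectrum L)
    refine ⟨O₁.ι (l z), l z, ?_, rfl⟩
    show τ.left (l z) ∈ U
    have h3 : (ml ≫ τ).left z ∈ U := by
      rw [hτ]
      show t₂.left (m₀ z) ∈ U
      rw [hpt]
      exact hp2
    exact h3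
  obtain ⟨x, hx⟩ := hne
  obtain ⟨_, ⟨g, rfl⟩, hxg, hgO⟩ := PrimeSpectrum.isTopologicalBasis_basic_opens.exists_subset_of_mem_open hx O₂.2
  refine ⟨g, fun h => by simp [h] at hxg, fun F' _ _ f c hc => ?_⟩
  let φ : PF →+* F' := MvPolynomial.eval₂Hom (f : F →+* F') c
  let mP : Spec (CommRingCat.of F') ⟶ Spec (CommRingCat.of PF) := Spec.map (CommRingCat.ofHom φ)
  have hmem : ∀ z, mP z ∈ O₂ := fun z => hgO (by
    show φ g ∉ z.asIdeal
    rw [show z.asIdeal = ⊥ from Ideal.eq_bot_of_prime _, Ideal.mem_bot]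
    exact hc)
  let l : Spec (CommRingCat.of F') ⟶ (O₁ : Scheme.{u}) := IsOpenImmersion.lift O₁.ι mP (by
    rw [Scheme.Opens.range_ι]
    rintro _ ⟨z, rfl⟩
    obtain ⟨y, -, hy⟩ := hmem z
    rw [← hy]
    exact y.2)
  have hl : l ≫ O₁.ι = mP := IsOpenImmersion.lift_fac _ _ _
  have hC : mP ≫ Spec.map (CommRingCat.ofHom (MvPolynomial.C : F →+* PF)) = Spec.map (CommRingCat.ofHom f.toRingHom) := by
    rw [← Spec.map_comp]
    exact congrArg Spec.map (CommRingCat.hom_ext (RingHom.ext fun r => MvPolynomial.eval₂Hom_C _ _ r))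
  let ml : Y k F' ⟶ X₁ := Over.homMk l (by
    show l ≫ O₁.ι ≫ _ ≫ sF = Spec.map (CommRingCat.ofHom (algebraMap k F'))
    rw [← Category.assoc, hl, ← Category.assoc, hC, ← Spec.map_comp, ← CommRingCat.ofHom_comp]
    exact congrArg (fun h => Spec.map (CommRingCat.ofHom h)) f.comp_algebraMap)
  refine ⟨ml ≫ β, ml ≫ τ, ?_, ?_, ?_⟩
  · rintro _ ⟨z, rfl⟩
    exact (ρ.b ((q₀ ∣_ Yo) (l z))).2
  · rintro _ ⟨z, rfl⟩
    obtain ⟨y, hy, hy'⟩ := hmem z
    have : l z = y := O₁.ι.isOpenEmbedding.injective (by rw [← Scheme.Hom.comp_apply, hl]; exact hy'.symm)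
    show τ.left (l z) ∈ U
    rw [this]
    exact hy
  · have hp : ml ≫ pF = yMap f := Over.OverMorphism.ext (by
      show l ≫ O₁.ι ≫ _ = Spec.map (CommRingCat.ofHom f.toRingHom)
      rw [← Category.assoc, hl, hC])
    rw [← MonObj.comp_mul, show β * τ = pF ≫ u from mul_inv_cancel_left _ _, ← Category.assoc, hp]
    rfl

/-- Nonvanishing at a point with coordinates in a large field. -/
theorem exists_eval {F F' : Type u} [Field F] [Field F'] (f : F →+* F') {g : MvPolynomial (Fin n) F} (hg : g ≠ 0)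
    (s : Finset F') (hs : g.totalDegree < s.card) : ∃ c : Fin n → F', MvPolynomial.eval₂ f c g ≠ 0 := by
  by_contra! h
  refine hg ?_
  have h0 : MvPolynomial.map f g = 0 :=
    MvPolynomial.eq_zero_of_eval_zero_at_prod_finset _ (fun _ => s)
      (fun i => lt_of_le_of_lt ((MvPolynomial.degreeOf_le_totalDegree _ i).trans (Finset.sup_mono (MvPolynomial.support_map_subset _ _))) hs)
      fun c _ => by rw [MvPolynomial.eval_map]; exact h c
  exact MvPolynomial.map_injective f f.injective (h0.trans (map_zero _).symm)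

/-- Elements fixed by the Galois group of the second factor. -/
theorem mem_range_includeLeft (A : Type u) (K : Type*) [CommRing A] [Algebra k A] [Field K] [Algebra k K] [FiniteDimensional k K]
    [IsGalois k K] (z : A ⊗[k] K)
    (hz : ∀ σ : K ≃ₐ[k] K, Algebra.TensorProduct.map (AlgHom.id k A) σ.toAlgHom z = z) :
    ∃ a : A, a ⊗ₜ[k] (1 : K) = z := by
  classical
  let bA := Module.Basis.ofVectorSpace k A
  let e := TensorProduct.equivFinsuppOfBasisLeft (N := K) bA
  have he : ∀ (σ : K ≃ₐ[k] K) (w : A ⊗[k] K) i,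
      e (Algebra.TensorProduct.map (AlgHom.id k A) σ.toAlgHom w) i = σ (e w i) := by
    intro σ w i
    induction w with
    | zero => simp
    | add x y hx hy => simp only [map_add, Finsupp.add_apply, hx, hy]
    | tmul a b => simp [e]
  have hfix : ∀ i, e z i ∈ Set.range (algebraMap k K) := fun i =>
    (IsGalois.mem_range_algebraMap_iff_fixed (e z i)).2 fun σ => by rw [← he, hz]
  choose r hr using hfix
  refine ⟨∑ i ∈ (e z).support, r i • bA i, e.injective (Finsupp.ext fun i => ?_)⟩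
  rw [TensorProduct.sum_tmul, map_sum, Finsupp.finsetSum_apply]
  simp only [e, TensorProduct.equivFinsuppOfBasisLeft_apply_tmul_apply, map_smul, Module.Basis.repr_self,
    Finsupp.smul_single, smul_eq_mul, mul_one, Finsupp.single_apply]
  by_cases hi : i ∈ (e z).support
  · rw [Finset.sum_eq_single i (fun j _ hj => by simp [hj]) (fun h => absurd hi h), if_pos rfl, Algebra.smul_def, hr,
      mul_one]
  · rw [Finset.sum_eq_zero fun j hj => by simp [show j ≠ i from fun h => hi (h ▸ hj)]]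
    exact (Finsupp.notMem_support_iff.1 hi).symm

theorem finrank_dvd_of_algHom {E L : Type*} [Field E] [Field L] [Algebra k E] [Algebra k L] (j : E →ₐ[k] L) :
    Module.finrank k E ∣ Module.finrank k L := by
  letI : Algebra E L := j.toRingHom.toAlgebra
  haveI : IsScalarTower k E L := .of_algebraMap_eq fun r => (j.commutes r).symm
  exact Dvd.intro _ (Module.finrank_mul_finrank k E L)

/-- Base change of a finite residue field by an extension of coprime degree. -/
theorem isField_tensor (F : Type u) (K : Type*) [Field F] [Algebra k F] [FiniteDimensional k F] [Field K] [Algebra k K]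
    [FiniteDimensional k K] (h : Nat.Coprime (Module.finrank k F) (Module.finrank k K)) : IsField (F ⊗[k] K) := by
  haveI : Nontrivial (F ⊗[k] K) := Module.nontrivial_of_finrank_pos (R := k) (by
    rw [Module.finrank_tensorProduct]; exact Nat.mul_pos Module.finrank_pos Module.finrank_pos)
  obtain ⟨Q, hQ⟩ := Ideal.exists_maximal (F ⊗[k] K)
  letI : Field ((F ⊗[k] K) ⧸ Q) := Ideal.Quotient.field Q
  let qk := Ideal.Quotient.mkₐ k Q
  have h1 : Module.finrank k F * Module.finrank k K ∣ Module.finrank k ((F ⊗[k] K) ⧸ Q) :=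
    h.mul_dvd_of_dvd_of_dvd (finrank_dvd_of_algHom (qk.comp Algebra.TensorProduct.includeLeft))
      (finrank_dvd_of_algHom (qk.comp Algebra.TensorProduct.includeRight))
  have hle : Module.finrank k (F ⊗[k] K) ≤ Module.finrank k ((F ⊗[k] K) ⧸ Q) := by
    rw [Module.finrank_tensorProduct]
    exact Nat.le_of_dvd Module.finrank_pos h1
  have hinj : Function.Injective qk :=
    (LinearMap.injective_iff_surjective_of_finrank_eq_finrank
      (le_antisymm hle (qk.toLinearMap.finrank_le_finrank_of_surjective Ideal.Quotient.mk_surjective))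
      (f := qk.toLinearMap)).2 Ideal.Quotient.mk_surjective
  exact MulEquiv.isField (Field.toIsField _) (RingEquiv.ofBijective qk ⟨hinj, Ideal.Quotient.mk_surjective⟩).toMulEquiv

theorem pb_injective [IsAffine T.left] {R R' : Type u} [CommRing R] [Algebra k R] [CommRing R'] [Algebra k R']
    (f : R →ₐ[k] R') (hf : Function.Injective f) : Function.Injective (pb T f) := fun p q h =>
  ring_injective (RingHom.ext fun c => hf (by
    have := congrArg (fun x => ring x c) h
    simpa [ring_pb] using this))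

include ρ in
/-- A power of a point with values in a finite field lifts. -/
theorem lift_pow [IsAffine T.left] (hTor : Red.IsTorus T) {A F : Type u} [CommRing A] [IsLocalRing A] [Field F]
    [Finite F] [Algebra k A] [Algebra k F] (π : A →ₐ[k] F) (hπ : Function.Surjective π) (u : Y k F ⟶ T)
    {g : MvPolynomial (Fin n) F}
    (hdec : ∀ (F' : Type u) [Field F'] [Algebra k F'] (f : F →ₐ[k] F') (c : Fin n → F'),
      MvPolynomial.eval₂ (f : F →+* F') c g ≠ 0 → ∃ v w : Y k F' ⟶ T, In (U := U) v ∧ In (U := U) w ∧ v * w = pb T f u)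
    (hg : g ≠ 0) (l : ℕ) (hl : l.Prime) (hd : Module.finrank k F < l) (hdeg : g.totalDegree < l) :
    ∃ q : Y k A ⟶ T, pb T π q = u ^ l := by
  classical
  haveI : Finite k := Finite.of_injective _ (algebraMap k F).injective
  haveI : Fact (ringChar k).Prime := ⟨CharP.char_is_prime k _⟩
  haveI : CharP k (ringChar k) := ringChar.charP k
  haveI : NeZero l := ⟨hl.ne_zero⟩
  haveI : Module.Finite k F := Module.Finite.of_finite
  let K := FiniteField.Extension k (ringChar k) l
  have hK : Module.finrank k K = l := FiniteField.finrank_extension k (ringChar k) l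
  haveI : IsGalois k K := inferInstance
  have hfield : IsField (F ⊗[k] K) := isField_tensor F K (by
    rw [hK]
    exact (hl.coprime_iff_not_dvd.2 (Nat.not_dvd_of_pos_of_lt Module.finrank_pos hd)).symm)
  letI : Field (F ⊗[k] K) := hfield.toField
  let ιF : F →ₐ[k] F ⊗[k] K := Algebra.TensorProduct.includeLeft
  let incl : A →ₐ[k] A ⊗[k] K := Algebra.TensorProduct.includeLeft
  let πK : A ⊗[k] K →ₐ[k] F ⊗[k] K := Algebra.TensorProduct.map π (AlgHom.id k K)
  have hπK : Function.Surjective πK := Algebra.TensorProduct.map_surjective _ _ hπ Function.surjective_id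
  haveI : IsLocalRing (A ⊗[k] K) := by
    haveI : (RingHom.ker πK).IsMaximal := RingHom.ker_isMaximal_of_surjective πK hπK
    refine IsLocalRing.of_unique_max_ideal ⟨RingHom.ker πK, ‹_›, fun M hM => ?_⟩
    haveI := hM
    refine (Ideal.IsMaximal.eq_of_le ‹_› hM.ne_top ?_).symm
    rw [show RingHom.ker πK = _ from Algebra.TensorProduct.rTensor_ker π hπ]
    refine Ideal.map_le_iff_le_comap.2 fun x hx => ?_
    have hmax : (M.comap (algebraMap A (A ⊗[k] K))).IsMaximal := Ideal.isMaximal_comap_of_isIntegral_of_isMaximal M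
    have hker : RingHom.ker π.toRingHom = M.comap (algebraMap A (A ⊗[k] K)) :=
      (IsLocalRing.eq_maximalIdeal (RingHom.ker_isMaximal_of_surjective π.toRingHom hπ)).trans
        (IsLocalRing.eq_maximalIdeal hmax).symm
    exact hker.le hx
  have hinj : Function.Injective ιF := (ιF : F →+* F ⊗[k] K).injective
  haveI : Fintype F := Fintype.ofFinite F
  haveI : Finite K := Module.finite_of_finite k
  haveI : Fintype (F ⊗[k] K) := @Fintype.ofFinite _ (Module.finite_of_finite k)
  obtain ⟨c, hc⟩ := exists_eval (ιF : F →+* F ⊗[k] K) hg Finset.univ (by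
    refine hdeg.trans_le ?_
    rw [Finset.card_univ, ← Nat.card_eq_fintype_card, Module.natCard_eq_pow_finrank (K := k)]
    refine le_trans ?_ (Nat.lt_pow_self (one_lt_two (α := ℕ))).le |>.trans (Nat.pow_le_pow_left Finite.one_lt_card _)
    rw [Module.finrank_tensorProduct, hK]
    exact Nat.le_mul_of_pos_left l Module.finrank_pos)
  obtain ⟨v, w, hv, hw, hvw⟩ := hdec (F ⊗[k] K) ιF c hc
  obtain ⟨qv, hqv⟩ := lift_mem ρ πK hπK v hv
  obtain ⟨qw, hqw⟩ := lift_mem ρ πK hπK w hw
  have hs : pb T πK (qv * qw) = pb T ιF u := by rw [map_mul, hqv, hqw, hvw]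
  letI : CommGroup (Y k (A ⊗[k] K) ⟶ T) :=
    { (inferInstance : Group (Y k (A ⊗[k] K) ⟶ T)) with mul_comm := RankOneCellLib.pts_comm_of_isTorus hTor }
  letI : CommGroup (Y k (F ⊗[k] K) ⟶ T) :=
    { (inferInstance : Group (Y k (F ⊗[k] K) ⟶ T)) with mul_comm := RankOneCellLib.pts_comm_of_isTorus hTor }
  haveI : Fintype (K ≃ₐ[k] K) := Fintype.ofFinite _
  let σA : (K ≃ₐ[k] K) → (A ⊗[k] K →ₐ[k] A ⊗[k] K) := fun σ =>
    Algebra.TensorProduct.map (AlgHom.id k A) σ.toAlgHom
  let N : Y k (A ⊗[k] K) ⟶ T := ∏ σ, pb T (σA σ) (qv * qw)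
  have hN : ∀ σ, pb T (σA σ) N = N := fun σ => by
    rw [map_prod]
    refine Fintype.prod_equiv (Equiv.mulLeft σ) _ _ fun τ => ?_
    rw [pb_pb]
    congr 2
    exact Algebra.TensorProduct.ext' fun a b => rfl
  obtain ⟨q, hq⟩ := exists_factor incl (Algebra.TensorProduct.includeLeft_injective (algebraMap k K).injective) N
    fun c => mem_range_includeLeft A K _ fun σ => by
      have := congrArg (fun p => ring p c) (hN σ)
      rw [ring_pb] at this
      exact this
  refine ⟨q, pb_injective ιF hinj ?_⟩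
  rw [pb_pb, show ιF.comp π = πK.comp incl from AlgHom.ext fun a => by simp [ιF, πK, incl], ← pb_pb, hq, map_prod,
    map_pow]
  rw [Finset.prod_congr rfl (g := fun _ => pb T ιF u) fun σ _ => ?_, Finset.prod_const, Finset.card_univ,
    ← Nat.card_eq_fintype_card, IsGalois.card_aut_eq_finrank, hK]
  rw [pb_pb, show πK.comp (σA σ) = (Algebra.TensorProduct.map (AlgHom.id k F) σ.toAlgHom).comp πK from
    Algebra.TensorProduct.ext' fun a b => rfl, ← pb_pb, hs, pb_pb]
  congr 2
  exact AlgHom.ext fun a => by simp [ιF]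

include ρ in
/-- All points with values in residue fields lift. -/
theorem lift_all [IsAffine T.left] (hTor : Red.IsTorus T) {A F : Type u} [CommRing A] [IsLocalRing A] [Field F]
    [Algebra k A] [Algebra k F] (π : A →ₐ[k] F) (hπ : Function.Surjective π) (u : Y k F ⟶ T) :
    ∃ q : Y k A ⟶ T, pb T π q = u := by
  haveI := SemiAbLib.geometricallyIntegral_torus hTor
  obtain ⟨g, hg, hdec⟩ := exists_poly ρ u
  rcases finite_or_infinite F with hF | hF
  · obtain ⟨l₁, h₁, hl₁⟩ := Nat.exists_infinite_primes (max (Module.finrank k F) g.totalDegree + 1)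
    obtain ⟨l₂, h₂, hl₂⟩ := Nat.exists_infinite_primes (l₁ + 1)
    obtain ⟨q₁, hq₁⟩ := lift_pow ρ hTor π hπ u hdec hg l₁ hl₁ (by omega) (by omega)
    obtain ⟨q₂, hq₂⟩ := lift_pow ρ hTor π hπ u hdec hg l₂ hl₂ (by omega) (by omega)
    have hgcd : Nat.gcd l₁ l₂ = 1 := (Nat.coprime_primes hl₁ hl₂).2 (by omega)
    refine ⟨q₁ ^ Nat.gcdA l₁ l₂ * q₂ ^ Nat.gcdB l₁ l₂, ?_⟩
    rw [map_mul, map_zpow, map_zpow, hq₁, hq₂, ← zpow_natCast, ← zpow_natCast, ← zpow_mul, ← zpow_mul, ← zpow_add,
      ← Nat.gcd_eq_gcd_ab, hgcd, Nat.cast_one, zpow_one]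
  · obtain ⟨s, hs⟩ := Infinite.exists_subset_card_eq F (g.totalDegree + 1)
    obtain ⟨c, hc⟩ := exists_eval (RingHom.id F) hg s (by omega)
    obtain ⟨v, w, hv, hw, hvw⟩ := hdec F (AlgHom.id k F) c hc
    obtain ⟨qv, hqv⟩ := lift_mem ρ π hπ v hv
    obtain ⟨qw, hqw⟩ := lift_mem ρ π hπ w hw
    exact ⟨qv * qw, by rw [map_mul, hqv, hqw, hvw, pb_id]⟩

end Groth.Agent.TorusRetrLib

end
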